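import Cfsg.Agent.Lib.TrialityTorus.Basic
import Mathlib.Algebra.Field.Subfield.Basic

/-!
Elements of ³D4(q): rank one elements of the fixed node, the orbit torus, and invariance under
the twisting endomorphism.
-/

set_option autoImplicit false

namespace Cfsg.Agent.Lib.TrialityTorus

open Cfsg.Lie Cfsg.Agent.Lib.Chev Cfsg.Agent.Lib.Triality Cfsg.Agent.Lib.Twisted
open scoped Matrix MatrixGroups
open RankOneData (upper lower sl_ext mul_entry upper_entries lower_entries)

variable {K : Type*} [Field K]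

local notation "hh" => Cfsg.Agent.Lib.Triality.rooted_four
local notation "hc" => Rooted.toChecked Cfsg.Agent.Lib.Triality.rooted_four

theorem cross_data : ∀ r ∈ [18, 13, 12, 5, 10, 11], ∀ s ∈ [18, 13, 12, 5, 10, 11],
    r ≠ s → s ≠ ng chevD4 r → r < chevD4.nroots ∧ s < chevD4.nroots ∧ chevD4.commTerms r s = [] := by
  decide +kernel

theorem commute_cross {r s : ℕ} (hr : r < chevD4.nroots) (hs : s < chevD4.nroots)
    (mr : r ∈ [18, 13, 12, 5, 10, 11]) (ms : s ∈ [18, 13, 12, 5, 10, 11]) (h1 : r ≠ s) (h2 : s ≠ ng chevD4 r)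
    (t u : K) : Commute (xGL hc K hr t) (xGL hc K hs u) := by
  obtain ⟨-, -, hnil⟩ := cross_data r mr s ms h1 h2
  have h := Checked.commutator_formula hc hr hs (Ne.symm h1) h2 t u
  rw [ChevalleyDatum.commWord, hnil, List.map_nil, ChevalleyDatum.wordMat, List.map_nil, List.prod_nil,
    mul_one] at h
  exact Units.ext h.symm

theorem outer_nodes : ∀ i ∈ [0, 2, 3], ∀ j ∈ [0, 2, 3], i ≠ j →
    ∀ r ∈ [chevD4.simple i, ng chevD4 (chevD4.simple i)],
      ∀ s ∈ [chevD4.simple j, ng chevD4 (chevD4.simple j)],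
        r ∈ [18, 13, 12, 5, 10, 11] ∧ s ∈ [18, 13, 12, 5, 10, 11] ∧ r ≠ s ∧ s ≠ ng chevD4 r := by
  decide +kernel

theorem commute_phi {i j : ℕ} (hi : i < chevD4.rank) (hj : j < chevD4.rank) (mi : i ∈ [0, 2, 3])
    (mj : j ∈ [0, 2, 3]) (hij : i ≠ j) (a b : SL(2, K)) : Commute (phi K hi a) (phi K hj b) := by
  have key : ∀ r ∈ [chevD4.simple i, ng chevD4 (chevD4.simple i)], ∀ hr : r < chevD4.nroots, ∀ t : K,
      phi K hj b ∈ Subgroup.centralizer {xGL hc K hr t} := by
    intro r mr hr t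
    refine sl2_range_le _ _ (fun u => ?_) (fun u => ?_) b <;>
      rw [Subgroup.mem_centralizer_singleton_iff]
    · obtain ⟨a1, a2, a3, a4⟩ := outer_nodes i mi j mj hij r mr (chevD4.simple j) (by simp)
      rw [phi_upper]
      exact (commute_cross hr _ a1 a2 a3 a4 t u).symm
    · obtain ⟨a1, a2, a3, a4⟩ := outer_nodes i mi j mj hij r mr (ng chevD4 (chevD4.simple j)) (by simp)
      rw [phi_lower]
      exact (commute_cross hr _ a1 a2 a3 a4 t u).symm
  have h2 : phi K hi a ∈ Subgroup.centralizer {phi K hj b} := by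
    refine sl2_range_le _ _ (fun t => ?_) (fun t => ?_) a <;> rw [Subgroup.mem_centralizer_singleton_iff]
    · rw [phi_upper]
      exact (Subgroup.mem_centralizer_singleton_iff.1 (key _ (by simp) (Checked.simple_lt hc hi) t)).symm
    · rw [phi_lower]
      exact (Subgroup.mem_centralizer_singleton_iff.1 (key _ (by simp) (Checked.ng_lt (Checked.simple_lt hc hi)) t)).symm
  exact Subgroup.mem_centralizer_singleton_iff.1 h2

theorem simple_values : chevD4.simple 0 = 18 ∧ chevD4.simple 1 = 14 ∧ chevD4.simple 2 = 13 ∧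
    chevD4.simple 3 = 12 ∧ ng chevD4 (chevD4.simple 0) = 5 ∧ ng chevD4 (chevD4.simple 1) = 9 ∧
    ng chevD4 (chevD4.simple 2) = 10 ∧ ng chevD4 (chevD4.simple 3) = 11 := by
  decide +kernel

/-- A word of root elements of ³D4 as a member. -/
theorem word_mem (q : ℕ) {g : GL chevD4.Idx K} {w : List (ℕ × K)} (hw : w ∈ d4Words K q)
    (hg : (g : Matrix chevD4.Idx chevD4.Idx K) = chevD4.wordMat K w) : g ∈ twistedD4 K q :=
  Subgroup.subset_closure ⟨w, hw, hg⟩

theorem phi_one_mem (q : ℕ) (σ : K →+* K) (hσ : ∀ x, σ x = x ^ q) (A : SL(2, K))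
    (hA : ∀ i j, σ (A i j) = A i j) : phi K (i := 1) (by decide) A ∈ twistedD4 K q := by
  have hi : 1 < chevD4.rank := by decide
  set k := σ.eqLocusField (RingHom.id K)
  let A' : SL(2, k) := ⟨Matrix.of fun i j => ⟨A i j, hA i j⟩, by
    refine k.subtype.injective ?_
    rw [k.subtype.map_det, RingHom.mapMatrix_apply, map_one]
    exact A.2⟩
  have e : A = Matrix.SpecialLinearGroup.map k.subtype A' :=
    Matrix.SpecialLinearGroup.ext _ _ fun i j => rfl
  rw [e]
  refine sl2_range_le ((phi K hi).comp (Matrix.SpecialLinearGroup.map k.subtype)) _ (fun t => ?_) (fun t => ?_) A'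
  · have e : Matrix.SpecialLinearGroup.map k.subtype (upper t) = upper (t : K) := by
      refine sl_ext ?_ ?_ ?_ ?_ <;> simp [upper_entries] <;> simp [upper]
    rw [MonoidHom.comp_apply, e, phi_upper]
    refine word_mem q (w := [(d4p2, (t : K))]) (Or.inl ⟨(t : K), ?_, d4p2, by simp, rfl⟩) ?_
    · rw [← hσ]; exact t.2
    · rw [coe_xGL, ChevalleyDatum.wordMat, List.map_cons, List.map_nil, List.prod_cons, List.prod_nil, mul_one]
      rw [simple_values.2.1]; rfl
  · have e : Matrix.SpecialLinearGroup.map k.subtype (lower t) = lower (t : K) := by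
      refine sl_ext ?_ ?_ ?_ ?_ <;> simp [lower_entries] <;> simp [lower]
    rw [MonoidHom.comp_apply, e, phi_lower]
    refine word_mem q (w := [(d4m2, (t : K))]) (Or.inl ⟨(t : K), ?_, d4m2, by simp, rfl⟩) ?_
    · rw [← hσ]; exact t.2
    · rw [coe_xGL, ChevalleyDatum.wordMat, List.map_cons, List.map_nil, List.prod_cons, List.prod_nil, mul_one]
      rw [simple_values.2.2.2.2.2.1]; rfl

/-- The parameters of the torus of the outer orbit and the central node. -/
def orbitParam {L : Type*} [Field L] (σ : L →+* L) (a b : Lˣ) : ℕ → Lˣ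
  | 0 => a
  | 1 => b
  | 2 => Units.map σ.toMonoidHom a
  | _ => Units.map σ.toMonoidHom (Units.map σ.toMonoidHom a)

theorem orbit_mem (q : ℕ) (σ : K →+* K) (hσ : ∀ x, σ x = x ^ q) (a b : Kˣ) (hb : σ (b : K) = b) :
    torusHom chevD4 K (orbitParam σ a b) ∈ twistedD4 K q := by
  have h0 : 0 < chevD4.rank := by decide
  have h1 : 1 < chevD4.rank := by decide
  have h2 : 2 < chevD4.rank := by decide
  have h3 : 3 < chevD4.rank := by decide
  set a₂ := Units.map σ.toMonoidHom a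
  set a₃ := Units.map σ.toMonoidHom a₂
  have hd1 : phi K h1 (diag2 b) ∈ twistedD4 K q := by
    refine phi_one_mem q σ hσ _ fun i j => ?_
    fin_cases i <;> fin_cases j <;> simp [diag2_entries, map_inv₀, hb, Units.val_inv_eq_inv_val]
  let m := Matrix.SpecialLinearGroup.map (n := Fin 2) σ
  let ψ : SL(2, K) →* GL chevD4.Idx K :=
    ((phi K h0).noncommCoprod (((phi K h2).comp m).noncommCoprod ((phi K h3).comp (m.comp m))
      (fun u v => commute_phi h2 h3 (by simp) (by simp) (by omega) _ _))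
      (fun u v => by
        rw [MonoidHom.noncommCoprod_apply]
        exact (commute_phi h0 h2 (by simp) (by simp) (by omega) _ _).mul_right
          (commute_phi h0 h3 (by simp) (by simp) (by omega) _ _))).comp
      ((MonoidHom.id _).prod ((MonoidHom.id _).prod (MonoidHom.id _)))
  have hψ : ∀ g, ψ g = phi K h0 g * (phi K h2 (m g) * phi K h3 (m (m g))) := fun g => rfl
  have hd : ψ (diag2 a) ∈ twistedD4 K q := by
    refine sl2_range_le ψ _ (fun t => ?_) (fun t => ?_) _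
    · have e : ∀ u : K, m (upper u) = upper (σ u) := fun u => by
        refine sl_ext ?_ ?_ ?_ ?_ <;> simp [m, upper_entries] <;> simp [upper]
      refine word_mem q (w := [(d4p1, t), (d4p3, t ^ q), (d4p4, t ^ (q ^ 2))])
        (Or.inr ⟨t, (d4p1, d4p3, d4p4), by simp, rfl⟩) ?_
      rw [hψ, e, e, phi_upper, phi_upper, phi_upper, Units.val_mul, Units.val_mul, coe_xGL, coe_xGL,
        coe_xGL, hσ, hσ, ← pow_mul, ← pow_two, simple_values.1, simple_values.2.2.1, simple_values.2.2.2.1]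
      simp [ChevalleyDatum.wordMat, d4p1, d4p3, d4p4]
    · have e : ∀ u : K, m (lower u) = lower (σ u) := fun u => by
        refine sl_ext ?_ ?_ ?_ ?_ <;> simp [m, lower_entries] <;> simp [lower]
      refine word_mem q (w := [(d4m1, t), (d4m3, t ^ q), (d4m4, t ^ (q ^ 2))])
        (Or.inr ⟨t, (d4m1, d4m3, d4m4), by simp, rfl⟩) ?_
      rw [hψ, e, e, phi_lower, phi_lower, phi_lower, Units.val_mul, Units.val_mul, coe_xGL, coe_xGL,
        coe_xGL, hσ, hσ, ← pow_mul, ← pow_two, simple_values.2.2.2.2.1, simple_values.2.2.2.2.2.2.1,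
        simple_values.2.2.2.2.2.2.2]
      simp [ChevalleyDatum.wordMat, d4m1, d4m3, d4m4]
  have hm : ∀ u : Kˣ, m (diag2 u) = diag2 (Units.map σ.toMonoidHom u) := fun u => by
    refine sl_ext ?_ ?_ ?_ ?_ <;> simp [m, diag2_entries] <;> simp [diag2]
  rw [hψ, hm, hm, phi_diag, phi_diag, phi_diag] at hd
  rw [phi_diag] at hd1
  have e : torusHom chevD4 K (orbitParam σ a b) = torusHom chevD4 K (Pi.mulSingle 0 a) *
      (torusHom chevD4 K (Pi.mulSingle 2 a₂) * torusHom chevD4 K (Pi.mulSingle 3 a₃)) *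
      torusHom chevD4 K (Pi.mulSingle 1 b) := by
    rw [← map_mul, ← map_mul, ← map_mul]
    refine ChevField.torusHom_congr fun i hi => ?_
    change i < 4 at hi
    interval_cases i <;> simp [orbitParam, a₂, a₃]
  rw [e]
  exact mul_mem hd hd1

theorem sigma_cube [Fintype K] (q : ℕ) (hK : Fintype.card K = q ^ 3) (σ : K →+* K) (hσ : ∀ x, σ x = x ^ q)
    (x : K) : σ (σ (σ x)) = x := by
  rw [hσ, hσ, hσ, ← pow_mul, ← pow_mul, show q * (q * q) = q ^ 3 by ring, ← hK, FiniteField.pow_card]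

theorem fixed_of_mem [Fintype K] (q : ℕ) (hK : Fintype.card K = q ^ 3) (σ : K →+* K) (hσ : ∀ x, σ x = x ^ q)
    {g : GL chevD4.Idx K} (hg : g ∈ twistedD4 K q) : g ∈ chevD4.group K ∧ twistMap σ g = g := by
  have hroots : (∀ r ∈ [d4p2, d4m2], rho r = r ∧ d4Graph.sign r = 1 ∧ r < chevD4.nroots) ∧
      ∀ rs ∈ [(d4p1, d4p3, d4p4), (d4m1, d4m3, d4m4)], rho rs.1 = rs.2.1 ∧ rho rs.2.1 = rs.2.2 ∧
        rho rs.2.2 = rs.1 ∧ d4Graph.sign rs.1 = 1 ∧ d4Graph.sign rs.2.1 = 1 ∧ d4Graph.sign rs.2.2 = 1 ∧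
        rs.1 < chevD4.nroots ∧ rs.2.1 < chevD4.nroots ∧ rs.2.2 < chevD4.nroots ∧
        [rs.1, rs.2.1, rs.2.2].Pairwise (fun r s => r ≠ s ∧ s ≠ ng chevD4 r) ∧
        rs.1 ∈ [18, 13, 12, 5, 10, 11] ∧ rs.2.1 ∈ [18, 13, 12, 5, 10, 11] ∧
        rs.2.2 ∈ [18, 13, 12, 5, 10, 11] := by decide +kernel
  have hx : ∀ r (hr : r < chevD4.nroots) (t : K), xGL hc K hr t ∈ chevD4.group K := fun r hr t =>
    Subgroup.subset_closure ⟨⟨r, hr⟩, t, by rw [coe_xGL, ChevalleyDatum.x, dif_pos]⟩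
  induction hg using Subgroup.closure_induction with
  | one => exact ⟨one_mem _, map_one _⟩
  | mul a b _ _ ha hb => exact ⟨mul_mem ha.1 hb.1, by rw [map_mul, ha.2, hb.2]⟩
  | inv a _ ha => exact ⟨inv_mem ha.1, by rw [map_inv, ha.2]⟩
  | mem g hg =>
    obtain ⟨w, hw, hg⟩ := hg
    rcases hw with ⟨t, ht, r, hr, rfl⟩ | ⟨t, rs, hrs, rfl⟩
    · obtain ⟨e1, e2, hlt⟩ := hroots.1 r hr
      obtain rfl : g = xGL hc K hlt t := Units.ext (by
        rw [hg, coe_xGL, ChevalleyDatum.wordMat]; simp)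
      refine ⟨hx r hlt t, ?_⟩
      rw [twistMap_x]
      refine xGL_congr _ _ e1 ?_
      rw [e2, Int.cast_one, one_mul, hσ, ht]
    · obtain ⟨r1, r2, r3, s1, s2, s3, l1, l2, l3, hp, m1, m2, m3⟩ := hroots.2 rs hrs
      simp only [List.pairwise_cons, List.mem_cons, List.not_mem_nil, or_false, forall_eq_or_imp,
        forall_eq] at hp
      obtain ⟨⟨⟨n1, o1⟩, ⟨n2, o2⟩⟩, ⟨n3, o3⟩, -⟩ := hp
      obtain rfl : g = xGL hc K l1 t * (xGL hc K l2 (t ^ q) * xGL hc K l3 (t ^ (q ^ 2))) := Units.ext (by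
        rw [hg, Units.val_mul, Units.val_mul, coe_xGL, coe_xGL, coe_xGL, ChevalleyDatum.wordMat]; simp)
      refine ⟨mul_mem (hx _ l1 _) (mul_mem (hx _ l2 _) (hx _ l3 _)), ?_⟩
      have e1 : twistMap σ (xGL hc K l1 t) = xGL hc K l2 (t ^ q) := by
        rw [twistMap_x]
        exact xGL_congr _ _ r1 (by rw [s1, Int.cast_one, one_mul, hσ])
      have e2 : twistMap σ (xGL hc K l2 (t ^ q)) = xGL hc K l3 (t ^ (q ^ 2)) := by
        rw [twistMap_x]
        exact xGL_congr _ _ r2 (by rw [s2, Int.cast_one, one_mul, hσ, ← pow_mul, pow_two])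
      have e3 : twistMap σ (xGL hc K l3 (t ^ (q ^ 2))) = xGL hc K l1 t := by
        rw [twistMap_x]
        exact xGL_congr _ _ r3 (by
          rw [s3, Int.cast_one, one_mul, hσ, ← pow_mul, show q ^ 2 * q = q ^ 3 by ring, ← hK, FiniteField.pow_card])
      rw [map_mul, map_mul, e1, e2, e3, ← mul_assoc]
      exact ((commute_cross l1 l2 m1 m2 n1 o1 _ _).mul_right (commute_cross l1 l3 m1 m3 n2 o2 _ _)).eq.symm

end Cfsg.Agent.Lib.TrialityTorus
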