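import Cfsg.Agent.Lib.Chev.All
import Cfsg.Prelude.Def_ChevD4

/-!
The exponents of the root values of a generator of the torus of order `(q³ - 1)(q + 1)` of ³D4(q)
in the multiplicative group of the field with `q⁶` elements.
-/

set_option autoImplicit false

namespace Cfsg.Agent.Lib.TrialityTorus

open Cfsg.Lie Cfsg.Agent.Lib.Chev

/-- The exponent of the value of a root with given cartan integers. -/
def expo (q : ℤ) (a b c d : ℤ) : ℤ := (q ^ 3 + 1) * (a + q * c + q ^ 2 * d) + (q ^ 4 + q ^ 2 + 1) * b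

/-- The exponent of the value of a root. -/
def rootExpo (q : ℤ) (r : ℕ) : ℤ :=
  expo q (chevD4.cartan 0 r) (chevD4.cartan 1 r) (chevD4.cartan 2 r) (chevD4.cartan 3 r)

/-- A small combination with exponent divisible by `q⁶ - 1` is zero. -/
theorem expo_eq_zero {q : ℤ} (hq : 26 ≤ q) {a b c d : ℤ} (ha : |a| ≤ 8) (hb : |b| ≤ 8) (hc : |c| ≤ 8)
    (hd : |d| ≤ 8) (h : q ^ 6 - 1 ∣ expo q a b c d) : a = 0 ∧ b = 0 ∧ c = 0 ∧ d = 0 := by
  rw [abs_le] at ha hb hc hd
  obtain ⟨k, hk⟩ := h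
  unfold expo at hk
  have hb0 : b = 0 := by
    have hdvd : q + 1 ∣ 3 * b := by
      refine ⟨(q ^ 5 - q ^ 4 + q ^ 3 - q ^ 2 + q - 1) * k - (q ^ 2 - q + 1) * (a + q * c + q ^ 2 * d) -
        (q ^ 3 - q ^ 2 + 2 * q - 2) * b, ?_⟩
      linear_combination hk
    have := Int.eq_zero_of_abs_lt_dvd hdvd (show |3 * b| < q + 1 by
      exact abs_lt.2 ⟨by linarith, by linarith⟩)
    omega
  subst hb0
  have hdvd : q ^ 3 - 1 ∣ a + q * c + q ^ 2 * d := by
    refine ⟨k, ?_⟩
    have h0 : q ^ 3 + 1 ≠ 0 := by nlinarith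
    refine mul_left_cancel₀ h0 ?_
    linear_combination hk
  have hz : a + q * c + q ^ 2 * d = 0 := by
    refine Int.eq_zero_of_abs_lt_dvd hdvd (abs_lt.2 ⟨?_, ?_⟩) <;> nlinarith
  have ha0 : a = 0 := Int.eq_zero_of_abs_lt_dvd (show q ∣ a from ⟨-(c + q * d), by linear_combination hz⟩)
    (abs_lt.2 ⟨by linarith, by linarith⟩)
  subst ha0
  have hz' : c + q * d = 0 := by
    refine mul_left_cancel₀ (show q ≠ 0 by linarith) ?_
    linear_combination hz
  have hc0 : c = 0 := Int.eq_zero_of_abs_lt_dvd (show q ∣ c from ⟨-d, by linear_combination hz'⟩)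
    (abs_lt.2 ⟨by linarith, by linarith⟩)
  subst hc0
  rw [zero_add, mul_eq_zero] at hz'
  exact ⟨rfl, rfl, rfl, hz'.resolve_left (by linarith)⟩

/-- The roots whose values are taken by no other root. -/
def singles : List ℕ :=
  [chevD4.simple 0, chevD4.simple 2, chevD4.simple 3, 16]

set_option maxRecDepth 100000 in
theorem cartan_small : ∀ r < 24, ∀ i < 4, |chevD4.cartan i r| ≤ 4 := by decide +kernel

set_option maxRecDepth 100000 in
theorem cartan_inj : ∀ r < 24, ∀ s < 24, (∀ i < 4, chevD4.cartan i r = chevD4.cartan i s) → r = s := by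
  decide +kernel

set_option maxRecDepth 100000 in
theorem cartan_ne : ∀ r < 24, ∃ i < 4, chevD4.cartan i r ≠ 0 := by decide +kernel

set_option maxRecDepth 100000 in
theorem small_cases : ∀ q < 26, 2 ≤ q → ∀ r < 24,
    rootExpo (q : ℕ) r % ((q : ℤ) ^ 6 - 1) ≠ 0 ∧
      ∀ a ∈ singles, r ≠ a → (rootExpo (q : ℕ) r - rootExpo (q : ℕ) a) % ((q : ℤ) ^ 6 - 1) ≠ 0 := by
  decide +kernel

theorem singles_lt : ∀ a ∈ singles, a < 24 := by decide +kernel

theorem rootExpo_facts (q : ℕ) (hq : 2 ≤ q) (r : ℕ) (hr : r < 24) :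
    ¬ ((q : ℤ) ^ 6 - 1 ∣ rootExpo q r) ∧
      ∀ a ∈ singles, r ≠ a → ¬ ((q : ℤ) ^ 6 - 1 ∣ rootExpo q r - rootExpo q a) := by
  by_cases hs : q < 26
  · obtain ⟨h1, h2⟩ := small_cases q hs hq r hr
    exact ⟨fun h => h1 (Int.emod_eq_zero_of_dvd h), fun a ha hne h => h2 a ha hne (Int.emod_eq_zero_of_dvd h)⟩
  have hq' : (26 : ℤ) ≤ q := by exact_mod_cast Nat.le_of_not_lt hs
  have b : ∀ i < 4, |chevD4.cartan i r| ≤ 4 := cartan_small r hr
  constructor
  · intro h
    obtain ⟨e0, e1, e2, e3⟩ := expo_eq_zero hq' ((b 0 (by omega)).trans (by norm_num))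
      ((b 1 (by omega)).trans (by norm_num)) ((b 2 (by omega)).trans (by norm_num))
      ((b 3 (by omega)).trans (by norm_num)) h
    obtain ⟨i, hi, hne⟩ := cartan_ne r hr
    interval_cases i <;> contradiction
  · intro a ha hne h
    have b' : ∀ i < 4, |chevD4.cartan i r - chevD4.cartan i a| ≤ 8 := fun i hi =>
      (abs_sub _ _).trans (by linarith [b i hi, cartan_small a (singles_lt a ha) i hi])
    obtain ⟨e0, e1, e2, e3⟩ := expo_eq_zero hq' (b' 0 (by omega)) (b' 1 (by omega)) (b' 2 (by omega))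
      (b' 3 (by omega)) (by convert h using 1; simp only [rootExpo, expo]; ring)
    refine hne (cartan_inj r hr a (singles_lt a ha) fun i hi => sub_eq_zero.1 ?_)
    interval_cases i <;> assumption

end Cfsg.Agent.Lib.TrialityTorus
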