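import Cfsg.Agent.Lib.TrialityTorus.Member
import Cfsg.Agent.Lib.TrialityTorus.Exponent
import Cfsg.Agent.Lib.Chev.TorusCard
import Cfsg.Agent.Lib.ChevRegular.Fixing

/-!
The diagonalized generator of the torus of order `(q³ - 1)(q + 1)`: its order, its regularity,
and the equations of the diagonal elements fixed by the composite of the twisting endomorphism
with the reflection of the central node.
-/

set_option autoImplicit false

namespace Cfsg.Agent.Lib.TrialityTorus

open Cfsg.Lie Cfsg.Agent.Lib.Chev Cfsg.Agent.Lib.Triality Cfsg.Agent.Lib.Twisted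
open scoped Matrix MatrixGroups

variable {L : Type*} [Field L]

local notation "hh" => Cfsg.Agent.Lib.Triality.rooted_four
local notation "hc" => Rooted.toChecked Cfsg.Agent.Lib.Triality.rooted_four

theorem torusFun_four (c : ℕ → Lˣ) (r : ℕ) : torusFun chevD4 c r =
    c 0 ^ chevD4.cartan 0 r * c 1 ^ chevD4.cartan 1 r * c 2 ^ chevD4.cartan 2 r * c 3 ^ chevD4.cartan 3 r := by
  simp only [torusFun, show chevD4.rank = 4 from rfl, Finset.prod_range_succ, Finset.prod_range_zero, one_mul]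

theorem cartan_values : (List.range 4).map (fun j => (List.range 4).map fun i => chevD4.cartan i (chevD4.simple j)) =
    [[2, -1, 0, 0], [-1, 2, -1, -1], [0, -1, 2, 0], [0, -1, 0, 2]] := by
  decide +kernel

theorem cartan_simple_values {i j : ℕ} (hi : i < 4) (hj : j < 4) : chevD4.cartan i (chevD4.simple j) =
    (([[2, -1, 0, 0], [-1, 2, -1, -1], [0, -1, 2, 0], [0, -1, 0, 2]] : List (List ℤ)).getD j []).getD i 0 := by
  rw [← cartan_values]
  simp [List.getD, hi, hj]

theorem torusFun_simples (c : ℕ → Lˣ) :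
    torusFun chevD4 c (chevD4.simple 0) = c 0 ^ 2 / c 1 ∧
    torusFun chevD4 c (chevD4.simple 1) = c 1 ^ 2 / (c 0 * c 2 * c 3) ∧
    torusFun chevD4 c (chevD4.simple 2) = c 2 ^ 2 / c 1 ∧
    torusFun chevD4 c (chevD4.simple 3) = c 3 ^ 2 / c 1 := by
  refine ⟨?_, ?_, ?_, ?_⟩ <;>
    simp [torusFun_four, cartan_simple_values, zpow_ofNat, div_eq_mul_inv, mul_inv, mul_comm, mul_left_comm,
      mul_assoc]

theorem torusFun_eq_one {c : ℕ → Lˣ} (h : torusHom chevD4 L c = 1) {r : ℕ} (hr : r < chevD4.nroots) :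
    torusFun chevD4 c r = 1 := by
  have e := congrArg (fun g : GL chevD4.Idx L =>
    (g : Matrix chevD4.Idx chevD4.Idx L) (Sum.inr ⟨r, hr⟩) (Sum.inr ⟨r, hr⟩)) h
  simp only [coe_torusHom, Units.val_one, Matrix.one_apply_eq] at e
  refine Units.ext ?_
  simpa [ChevalleyDatum.charDiag] using e

theorem torusFun_congr {c d : ℕ → Lˣ} (h : torusHom chevD4 L c = torusHom chevD4 L d) {r : ℕ}
    (hr : r < chevD4.nroots) : torusFun chevD4 c r = torusFun chevD4 d r := by
  have e := congrArg (fun g : GL chevD4.Idx L =>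
    (g : Matrix chevD4.Idx chevD4.Idx L) (Sum.inr ⟨r, hr⟩) (Sum.inr ⟨r, hr⟩)) h
  simp only [coe_torusHom] at e
  refine Units.ext ?_
  simpa [ChevalleyDatum.charDiag] using e

theorem torusHom_ext_simple {c d : ℕ → Lˣ}
    (h : ∀ j < 4, torusFun chevD4 c (chevD4.simple j) = torusFun chevD4 d (chevD4.simple j)) :
    torusHom chevD4 L c = torusHom chevD4 L d := by
  have e : ∀ r < chevD4.nroots, torusFun chevD4 c r = torusFun chevD4 d r := fun r hr => by
    rw [← Checked.chiOf_torus hc c hr, ← Checked.chiOf_torus hc d hr]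
    exact Finset.prod_congr rfl fun j hj => by dsimp only; rw [h j (Finset.mem_range.1 hj)]
  refine Units.ext ?_
  rw [coe_torusHom, coe_torusHom]
  unfold ChevalleyDatum.charDiag
  congr 1
  funext x
  rcases x with i | r
  · rfl
  · simp [e r.1 r.2]

theorem torusFun_pow (c : ℕ → Lˣ) (k r : ℕ) : torusFun chevD4 (c ^ k) r = torusFun chevD4 c r ^ k := by
  simp only [torusFun, ← Finset.prod_pow, Pi.pow_apply]
  exact Finset.prod_congr rfl fun i _ => by rw [← zpow_natCast, ← zpow_natCast, zpow_comm]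

/-- The parameters of the diagonalized generator. -/
def genParam (σ : L →+* L) (q : ℕ) (μ : Lˣ) : ℕ → Lˣ :=
  orbitParam σ (μ ^ (q ^ 3 + 1)) (μ ^ (q ^ 4 + q ^ 2 + 1))

theorem torusFun_gen (σ : L →+* L) (q : ℕ) (hσ : ∀ x, σ x = x ^ q) (μ : Lˣ) (r : ℕ) :
    torusFun chevD4 (genParam σ q μ) r = μ ^ rootExpo q r := by
  have hm : ∀ u : Lˣ, Units.map σ.toMonoidHom u = u ^ q := fun u => Units.ext (by simp [hσ])
  simp only [torusFun_four, genParam, orbitParam, hm, ← pow_mul]
  simp only [← zpow_natCast μ, ← zpow_mul, ← zpow_add, rootExpo, expo]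
  congr 1
  push_cast
  ring

variable (σ : L →+* L) (q : ℕ) (hσ : ∀ x, σ x = x ^ q) (μ : Lˣ)

include hσ in
theorem orderOf_gen (hq : 2 ≤ q) (hμ : (orderOf μ : ℤ) = (q : ℤ) ^ 6 - 1) :
    orderOf (torusHom chevD4 L (genParam σ q μ)) = (q ^ 3 - 1) * (q + 1) := by
  have hq3 : 1 ≤ q ^ 3 := Nat.one_le_pow _ _ (by omega)
  have hcast : (((q ^ 3 - 1) * (q + 1) : ℕ) : ℤ) = ((q : ℤ) ^ 3 - 1) * (q + 1) := by
    rw [Nat.cast_mul, Nat.cast_sub hq3]; push_cast; ring
  have hpos : 0 < (q ^ 3 - 1) * (q + 1) :=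
    Nat.mul_pos (by have : 2 ^ 3 ≤ q ^ 3 := Nat.pow_le_pow_left hq 3; omega) (by omega)
  refine (orderOf_eq_iff hpos).2 ⟨?_, fun m hm hm0 e => ?_⟩
  · rw [← map_pow, ← map_one (torusHom chevD4 L)]
    refine torusHom_ext_simple fun j hj => ?_
    rw [torusFun_pow, torusFun_gen σ q hσ, show torusFun chevD4 (1 : ℕ → Lˣ) (chevD4.simple j) = 1 by simp [torusFun],
      ← zpow_natCast, ← zpow_mul, ← orderOf_dvd_iff_zpow_eq_one, hμ, hcast]
    unfold rootExpo expo
    set A := chevD4.cartan 0 (chevD4.simple j) + q * chevD4.cartan 2 (chevD4.simple j) +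
      q ^ 2 * chevD4.cartan 3 (chevD4.simple j)
    refine ⟨((q : ℤ) + 1) * A + ((q : ℤ) ^ 2 + q + 1) * chevD4.cartan 1 (chevD4.simple j), ?_⟩
    ring
  · rw [← map_pow] at e
    have key : ∀ j < 4, ((q : ℤ) ^ 6 - 1) ∣ rootExpo q (chevD4.simple j) * m := by
      intro j hj
      have h1 := torusFun_eq_one e (Checked.simple_lt hc (i := j) hj)
      rw [torusFun_pow, torusFun_gen σ q hσ, ← zpow_natCast, ← zpow_mul, ← orderOf_dvd_iff_zpow_eq_one, hμ] at h1
      exact h1
    obtain ⟨k0, h0⟩ := key 0 (by omega)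
    obtain ⟨k1, h1⟩ := key 1 (by omega)
    obtain ⟨k2, h2⟩ := key 2 (by omega)
    obtain ⟨k3, h3⟩ := key 3 (by omega)
    simp only [rootExpo, expo, cartan_simple_values, show (0:ℕ) < 4 by omega, show (1:ℕ) < 4 by omega,
      show (2:ℕ) < 4 by omega, show (3:ℕ) < 4 by omega, List.getD_cons_zero, List.getD_cons_succ] at h0 h1 h2 h3
    set Q : ℤ := (q : ℤ) ^ 2 + q + 1
    set N : ℤ := (q : ℤ) ^ 6 - 1
    -- the two exponents
    have eC : ((q : ℤ) ^ 4 + q ^ 2 + 1) * m = N * (k0 + k2 + k3 + 2 * k1) := by linear_combination h0 + h2 + h3 + 2 * h1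
    have e2L : ((q : ℤ) ^ 3 + 1) * (2 * m) = N * (k0 + (k0 + k2 + k3 + 2 * k1)) := by linear_combination h0 + eC
    have eQL : ((q : ℤ) ^ 3 + 1) * (Q * m) = N * (2 * (k0 + k2 + k3 + 2 * k1) - k1) := by
      linear_combination (-1 : ℤ) * h1 + 2 * eC
    obtain ⟨w, hw⟩ : ∃ w, Q = 2 * w + 1 := by
      obtain ⟨w, hw⟩ : Even ((q : ℤ) * (q + 1)) := Int.even_mul_succ_self _
      exact ⟨w, by linear_combination hw⟩
    set k4 := 2 * (k0 + k2 + k3 + 2 * k1) - k1 - w * (k0 + (k0 + k2 + k3 + 2 * k1))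
    have hne : ((q : ℤ) ^ 3 + 1) ≠ 0 := by positivity
    have em : (m : ℤ) = ((q : ℤ) ^ 3 - 1) * k4 := by
      refine mul_left_cancel₀ hne ?_
      linear_combination eQL - w * e2L - ((q : ℤ) ^ 3 + 1) * (m : ℤ) * hw
    have hdiv : (((q ^ 3 - 1) * (q + 1) : ℕ) : ℤ) ∣ (m : ℤ) := by
      rw [hcast, em]
      refine mul_dvd_mul_left _ ?_
      refine ⟨(k0 + k2 + k3 + 2 * k1) - q * k4, ?_⟩
      have hne2 : ((q : ℤ) ^ 4 + q ^ 2 + 1) * ((q : ℤ) - 1) ≠ 0 := by
        refine mul_ne_zero (by positivity) ?_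
        omega
      refine mul_left_cancel₀ hne2 ?_
      linear_combination eC - ((q : ℤ) ^ 4 + q ^ 2 + 1) * em
    have := Nat.le_of_dvd hm0 (Int.natCast_dvd_natCast.1 hdiv)
    omega

include hσ in
/-- The centralizer of the diagonalized generator consists of diagonal elements. -/
theorem diagonal_of_commute (hq : 2 ≤ q) (hμ : (orderOf μ : ℤ) = (q : ℤ) ^ 6 - 1)
    {g : GL chevD4.Idx L} (hg : g ∈ chevD4.group L) (hg' : Commute (torusHom chevD4 L (genParam σ q μ)) g) :
    g ∈ chevD4.diagonalSubgroup L := by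
  refine ChevRegular.mem_diagonal_of_commute_of_fixing hh _ (fun r hr e => ?_) (fun W hW hfix => ?_) hg hg'
  · rw [torusFun_gen σ q hσ, ← orderOf_dvd_iff_zpow_eq_one, hμ] at e
    exact (rootExpo_facts q hq r hr).1 e
  have hsing : ∀ a ∈ singles, perm D4.cert W a = a := by
    intro a ha
    by_contra hne
    have e := hfix a (singles_lt a ha)
    rw [torusFun_gen σ q hσ, torusFun_gen σ q hσ, ← mul_inv_eq_one, ← zpow_neg, ← zpow_add,
      ← orderOf_dvd_iff_zpow_eq_one, hμ, ← sub_eq_add_neg] at e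
    exact (rootExpo_facts q hq _ (Checked.perm_lt hc hW (singles_lt a ha))).2 a ha hne e
  have h0 : perm D4.cert W (chevD4.simple 0) = chevD4.simple 0 := hsing _ (by simp [singles])
  have h2 : perm D4.cert W (chevD4.simple 2) = chevD4.simple 2 := hsing _ (by simp [singles])
  have h3 : perm D4.cert W (chevD4.simple 3) = chevD4.simple 3 := hsing _ (by simp [singles])
  have h16 : perm D4.cert W 16 = 16 := hsing _ (by simp [singles])
  have hc16 : ∀ j < 4, coef chevD4 D4.cert 1 16 = 1 ∧ coef chevD4 D4.cert 2 16 = 1 ∧ coef chevD4 D4.cert 0 16 = 0 ∧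
      coef chevD4 D4.cert 3 16 = 0 ∧
      coef chevD4 D4.cert j 16 = coef chevD4 D4.cert j (chevD4.simple 1) + coef chevD4 D4.cert j (chevD4.simple 2) := by
    decide +kernel
  have hlin : ∀ j < 4, ∀ r < 24, coef chevD4 D4.cert j (perm D4.cert W r) =
      coef chevD4 D4.cert 0 r * coef chevD4 D4.cert j (perm D4.cert W (chevD4.simple 0)) +
      coef chevD4 D4.cert 1 r * coef chevD4 D4.cert j (perm D4.cert W (chevD4.simple 1)) +
      coef chevD4 D4.cert 2 r * coef chevD4 D4.cert j (perm D4.cert W (chevD4.simple 2)) +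
      coef chevD4 D4.cert 3 r * coef chevD4 D4.cert j (perm D4.cert W (chevD4.simple 3)) := fun j hj r hr => by
    rw [Checked.coef_perm hc hj hW hr, show chevD4.rank = 4 from rfl]
    simp [Finset.sum_range_succ]
  have h1 : perm D4.cert W (chevD4.simple 1) = chevD4.simple 1 := by
    refine coef_inj _ (Checked.perm_lt hc hW (Checked.simple_lt hc (i := 1) (by decide))) _
      (Checked.simple_lt hc (i := 1) (by decide)) fun j hj => ?_
    obtain ⟨a1, a2, a0, a3, ej⟩ := hc16 j hj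
    have := hlin j hj 16 (by omega)
    rw [h16, h0, h2, h3, a0, a1, a2, a3] at this
    linarith
  intro r hr
  refine coef_inj _ (Checked.perm_lt hc hW hr) r hr fun j hj => ?_
  rw [hlin j hj r hr, h0, h1, h2, h3]
  have := hlin j hj r hr
  have hd : ∀ r < 24, ∀ j < 4, coef chevD4 D4.cert 0 r * coef chevD4 D4.cert j (chevD4.simple 0) +
      coef chevD4 D4.cert 1 r * coef chevD4 D4.cert j (chevD4.simple 1) +
      coef chevD4 D4.cert 2 r * coef chevD4 D4.cert j (chevD4.simple 2) +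
      coef chevD4 D4.cert 3 r * coef chevD4 D4.cert j (chevD4.simple 3) = coef chevD4 D4.cert j r := by
    decide +kernel
  exact hd r hr j hj

/-- The composite of the twisting endomorphism with the reflection of the central node, on parameters. -/
def twistParam (σ : L →+* L) (c : ℕ → Lˣ) : ℕ → Lˣ :=
  let c' : ℕ → Lˣ := fun j => Units.map σ.toMonoidHom (c (d4Graph.node (d4Graph.node j)))
  fun k => if k = 1 then c' 1 * (∏ m ∈ Finset.range chevD4.rank, c' m ^ cm D4.cert m 1)⁻¹ else c' k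

theorem cm_col : cm D4.cert 0 1 = -1 ∧ cm D4.cert 1 1 = 2 ∧ cm D4.cert 2 1 = -1 ∧ cm D4.cert 3 1 = -1 := by
  decide +kernel

include hσ in
theorem twistParam_simples (c : ℕ → Lˣ) :
    torusFun chevD4 (twistParam σ c) (chevD4.simple 0) =
      (torusFun chevD4 c (chevD4.simple 3) * torusFun chevD4 c (chevD4.simple 1)) ^ q ∧
    torusFun chevD4 (twistParam σ c) (chevD4.simple 1) = (torusFun chevD4 c (chevD4.simple 1) ^ q)⁻¹ ∧
    torusFun chevD4 (twistParam σ c) (chevD4.simple 2) =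
      (torusFun chevD4 c (chevD4.simple 0) * torusFun chevD4 c (chevD4.simple 1)) ^ q ∧
    torusFun chevD4 (twistParam σ c) (chevD4.simple 3) =
      (torusFun chevD4 c (chevD4.simple 2) * torusFun chevD4 c (chevD4.simple 1)) ^ q := by
  have hm : ∀ u : Lˣ, Units.map σ.toMonoidHom u = u ^ q := fun u => Units.ext (by simp [hσ])
  obtain ⟨s0, s1, s2, s3⟩ := torusFun_simples c
  obtain ⟨t0, t1, t2, t3⟩ := torusFun_simples (twistParam σ c)
  obtain ⟨n0, n1, n2, n3⟩ : d4Graph.node (d4Graph.node 0) = 3 ∧ d4Graph.node (d4Graph.node 1) = 1 ∧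
      d4Graph.node (d4Graph.node 2) = 0 ∧ d4Graph.node (d4Graph.node 3) = 2 := by decide +kernel
  obtain ⟨m0, m1, m2, m3⟩ := cm_col
  rw [s0, s1, s2, s3, t0, t1, t2, t3]
  simp only [twistParam, show chevD4.rank = 4 from rfl, Finset.prod_range_succ, Finset.prod_range_zero, hm,
    n0, n1, n2, n3, m0, m1, m2, m3]
  refine ⟨?_, ?_, ?_, ?_⟩ <;> refine Units.ext ?_ <;> simp [zpow_ofNat, mul_pow, div_pow] <;> field_simp <;> ring

end Cfsg.Agent.Lib.TrialityTorus
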