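import Cfsg.Prelude.Def_LieTwisted
import Cfsg.Agent.Lib.Triality.Counting
import Cfsg.Agent.Lib.Chev.SL2Hom
import Cfsg.Agent.Lib.ChevField.Fixed
import Mathlib.GroupTheory.NoncommCoprod

/-!
The twisting endomorphism of D4, the rank one homomorphisms and elements of ³D4(q).
-/

set_option autoImplicit false

namespace Cfsg.Agent.Lib.TrialityTorus

open Cfsg.Lie Cfsg.Agent.Lib.Chev Cfsg.Agent.Lib.Triality Cfsg.Agent.Lib.Twisted
open scoped Matrix MatrixGroups
open RankOneData (upper lower wElt sl_ext mul_entry upper_entries lower_entries wElt_entries)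

variable {F : Type*} [Field F]

local notation "hh" => Cfsg.Agent.Lib.Triality.rooted_four
local notation "hc" => Rooted.toChecked Cfsg.Agent.Lib.Triality.rooted_four

/-- Homomorphisms on `SL₂` agreeing on the triangular unipotent matrices are equal. -/
theorem sl2_hom_ext {k : Type*} [Field k] {M : Type*} [Group M] (a b : SL(2, k) →* M)
    (hu : ∀ t, a (upper t) = b (upper t)) (hl : ∀ t, a (lower t) = b (lower t)) : a = b := by
  refine MonoidHom.eq_of_eqOn_dense RankOneData.closure_gens ?_
  rintro g (⟨t, rfl⟩ | rfl)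
  · exact hu t
  · have e : (wElt : SL(2, k)) = upper 1 * lower (-1) * upper 1 := by
      refine sl_ext ?_ ?_ ?_ ?_ <;> simp [mul_entry, upper_entries, lower_entries, wElt_entries]
    rw [e, map_mul, map_mul, map_mul, map_mul, hu, hl]

/-- The image of `SL₂` in a subgroup containing the images of the triangular unipotent matrices. -/
theorem sl2_range_le {k : Type*} [Field k] {M : Type*} [Group M] (a : SL(2, k) →* M) (H : Subgroup M)
    (hu : ∀ t, a (upper t) ∈ H) (hl : ∀ t, a (lower t) ∈ H) (g : SL(2, k)) : a g ∈ H := by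
  suffices (⊤ : Subgroup SL(2, k)) ≤ H.comap a from this (Subgroup.mem_top g)
  rw [← RankOneData.closure_gens, Subgroup.closure_le]
  rintro g (⟨t, rfl⟩ | rfl)
  · exact hu t
  · have e : (wElt : SL(2, k)) = upper 1 * lower (-1) * upper 1 := by
      refine sl_ext ?_ ?_ ?_ ?_ <;> simp [mul_entry, upper_entries, lower_entries, wElt_entries]
    show a wElt ∈ H
    rw [e, map_mul, map_mul]
    exact mul_mem (mul_mem (hu _) (hl _)) (hu _)

/-- The rank one homomorphism of a fundamental root. -/
noncomputable def phi (F : Type*) [Field F] {i : ℕ} (hi : i < chevD4.rank) : SL(2, F) →* GL chevD4.Idx F :=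
  Classical.choose (Rooted.hasSL2_simple hh (F := F) Twisted.etaSigns_D4 hi (Checked.simple_lt hc hi))

theorem phi_upper {i : ℕ} (hi : i < chevD4.rank) (t : F) :
    phi F hi (upper t) = xGL hc F (Checked.simple_lt hc hi) t :=
  ((Classical.choose_spec (Rooted.hasSL2_simple hh (F := F) Twisted.etaSigns_D4 hi (Checked.simple_lt hc hi))).2 t).1

theorem phi_lower {i : ℕ} (hi : i < chevD4.rank) (t : F) :
    phi F hi (lower t) = xGL hc F (Checked.ng_lt (Checked.simple_lt hc hi)) t :=
  ((Classical.choose_spec (Rooted.hasSL2_simple hh (F := F) Twisted.etaSigns_D4 hi (Checked.simple_lt hc hi))).2 t).2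

theorem phi_mem {i : ℕ} (hi : i < chevD4.rank) (g : SL(2, F)) : phi F hi g ∈ chevD4.group F := by
  refine sl2_range_le _ _ (fun t => ?_) (fun t => ?_) g
  · rw [phi_upper]
    exact Subgroup.subset_closure ⟨⟨_, Checked.simple_lt hc hi⟩, t, by
      rw [coe_xGL, ChevalleyDatum.x, dif_pos]⟩
  · rw [phi_lower]
    exact Subgroup.subset_closure ⟨⟨_, Checked.ng_lt (Checked.simple_lt hc hi)⟩, t, by
      rw [coe_xGL, ChevalleyDatum.x, dif_pos]⟩

/-- A diagonal matrix of determinant one. -/
def diag2 {k : Type*} [Field k] (a : kˣ) : SL(2, k) :=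
  ⟨!![(a : k), 0; 0, ((a⁻¹ : kˣ) : k)], by rw [Matrix.det_fin_two_of]; simp⟩

theorem diag2_entries {k : Type*} [Field k] (a : kˣ) : diag2 a 0 0 = (a : k) ∧ diag2 a 0 1 = 0 ∧
    diag2 a 1 0 = 0 ∧ diag2 a 1 1 = ((a⁻¹ : kˣ) : k) := ⟨rfl, rfl, rfl, rfl⟩

theorem diag2_eq {k : Type*} [Field k] (a : kˣ) :
    diag2 a = upper (a : k) * lower (-(a : k)⁻¹) * upper (a : k) * (upper (-1) * lower 1 * upper (-1)) := by
  have ha := a.ne_zero
  refine sl_ext ?_ ?_ ?_ ?_ <;>
    simp [mul_entry, upper_entries, lower_entries, diag2_entries, Units.val_inv_eq_inv_val] <;> field_simp <;> ring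

theorem phi_diag {i : ℕ} (hi : i < chevD4.rank) (a : Fˣ) :
    phi F hi (diag2 a) = torusHom chevD4 F (Pi.mulSingle i a) := by
  refine Units.ext ?_
  have hr := Checked.simple_lt hc hi
  rw [← Rooted.hMat_simple_torus hh hi a, Checked.hMat_eq_mul hc, diag2_eq]
  simp only [map_mul, phi_upper, phi_lower, Units.val_mul, coe_xGL, ChevalleyDatum.nMat,
    ChevalleyDatum.nWord, ChevalleyDatum.wordMat, List.map_cons, List.map_nil, List.prod_cons, List.prod_nil,
    mul_one, Checked.neg_eq hc hr]
  simp [mul_assoc]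

theorem phi_wElt {i : ℕ} (hi : i < chevD4.rank) : phi F hi wElt = nS hc F i := by
  refine Units.ext ?_
  have hr := Checked.simple_lt hc hi
  have e : (wElt : SL(2, F)) = upper 1 * lower (-1) * upper 1 := by
    refine sl_ext ?_ ?_ ?_ ?_ <;> simp [mul_entry, upper_entries, lower_entries, wElt_entries]
  rw [coe_nS hc hi, e]
  simp only [map_mul, phi_upper, phi_lower, Units.val_mul, coe_xGL, ChevalleyDatum.nMat,
    ChevalleyDatum.nWord, ChevalleyDatum.wordMat, List.map_cons, List.map_nil, List.prod_cons, List.prod_nil,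
    mul_one, Checked.neg_eq hc hr, inv_one]
  simp [mul_assoc]

theorem glMap_phi {L : Type*} [Field L] (f : F →+* L) {i : ℕ} (hi : i < chevD4.rank) (g : SL(2, F)) :
    ChevField.glMap chevD4 f (phi F hi g) = phi L hi (Matrix.SpecialLinearGroup.map f g) := by
  refine DFunLike.congr_fun (f := (ChevField.glMap chevD4 f).comp (phi F hi))
    (g := (phi L hi).comp (Matrix.SpecialLinearGroup.map f))
    (sl2_hom_ext _ _ (fun t => ?_) (fun t => ?_)) g
  · have e : Matrix.SpecialLinearGroup.map f (upper t) = upper (f t) := by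
      refine sl_ext ?_ ?_ ?_ ?_ <;> simp [upper_entries] <;> simp [upper]
    simp only [MonoidHom.comp_apply, e, phi_upper]
    exact ChevField.glMap_xGL hc f (Checked.simple_lt hc hi) t
  · have e : Matrix.SpecialLinearGroup.map f (lower t) = lower (f t) := by
      refine sl_ext ?_ ?_ ?_ ?_ <;> simp [lower_entries] <;> simp [lower]
    simp only [MonoidHom.comp_apply, e, phi_lower]
    exact ChevField.glMap_xGL hc f (Checked.ng_lt (Checked.simple_lt hc hi)) t

/-- Conjugation by `diag (a, 1)` of a matrix. -/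
def scaleFun {k : Type*} [Field k] (a : kˣ) (g : SL(2, k)) : SL(2, k) :=
  ⟨!![g 0 0, (a : k) * g 0 1; ((a⁻¹ : kˣ) : k) * g 1 0, g 1 1], by
    rw [Matrix.det_fin_two_of]
    linear_combination RankOneData.det_eq g - g 0 1 * g 1 0 * a.mul_inv⟩

theorem scaleFun_entries {k : Type*} [Field k] (a : kˣ) (g : SL(2, k)) :
    scaleFun a g 0 0 = g 0 0 ∧ scaleFun a g 0 1 = (a : k) * g 0 1 ∧
      scaleFun a g 1 0 = ((a⁻¹ : kˣ) : k) * g 1 0 ∧ scaleFun a g 1 1 = g 1 1 := ⟨rfl, rfl, rfl, rfl⟩

/-- Conjugation by `diag (a, 1)`. -/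
def scale {k : Type*} [Field k] (a : kˣ) : SL(2, k) →* SL(2, k) :=
  MonoidHom.mk' (scaleFun a) (fun g h => by
    refine sl_ext ?_ ?_ ?_ ?_ <;> simp only [mul_entry, scaleFun_entries]
    · linear_combination -g 0 1 * h 1 0 * a.mul_inv
    · ring
    · ring
    · linear_combination -g 1 0 * h 0 1 * a.mul_inv)

theorem scale_entries {k : Type*} [Field k] (a : kˣ) (g : SL(2, k)) :
    scale a g 0 0 = g 0 0 ∧ scale a g 0 1 = (a : k) * g 0 1 ∧
      scale a g 1 0 = ((a⁻¹ : kˣ) : k) * g 1 0 ∧ scale a g 1 1 = g 1 1 := ⟨rfl, rfl, rfl, rfl⟩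

theorem torusFun_ng_simple : ∀ i < 4, ∀ j < 4,
    chevD4.cartan j (ng chevD4 (chevD4.simple i)) = -chevD4.cartan j (chevD4.simple i) := by
  decide +kernel

theorem torus_conj_phi (c : ℕ → Fˣ) {i : ℕ} (hi : i < chevD4.rank) (g : SL(2, F)) :
    torusHom chevD4 F c * phi F hi g * (torusHom chevD4 F c)⁻¹ =
      phi F hi (scale (torusFun chevD4 c (chevD4.simple i)) g) := by
  refine DFunLike.congr_fun (f := (MulAut.conj (torusHom chevD4 F c)).toMonoidHom.comp (phi F hi))
    (g := (phi F hi).comp (scale (torusFun chevD4 c (chevD4.simple i))))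
    (sl2_hom_ext _ _ (fun t => ?_) (fun t => ?_)) g
  · have e : scale (torusFun chevD4 c (chevD4.simple i)) (upper t) =
        upper ((torusFun chevD4 c (chevD4.simple i) : F) * t) := by
      refine sl_ext ?_ ?_ ?_ ?_ <;> simp [scale_entries, upper_entries]
    simp only [MonoidHom.comp_apply, MulEquiv.coe_toMonoidHom, MulAut.conj_apply, e, phi_upper]
    exact Checked.conj_x hc (Checked.simple_lt hc hi) t
  · have e : scale (torusFun chevD4 c (chevD4.simple i)) (lower t) =
        lower (((torusFun chevD4 c (chevD4.simple i))⁻¹ : Fˣ) * t) := by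
      refine sl_ext ?_ ?_ ?_ ?_ <;> simp [scale_entries, lower_entries]
    simp only [MonoidHom.comp_apply, MulEquiv.coe_toMonoidHom, MulAut.conj_apply, e, phi_lower]
    rw [Checked.conj_x hc (Checked.ng_lt (Checked.simple_lt hc hi))]
    congr 2
    simp only [torusFun, ← Finset.prod_inv_distrib, ← zpow_neg]
    congr 1
    refine Finset.prod_congr rfl fun j hj => ?_
    rw [torusFun_ng_simple i hi j (Finset.mem_range.1 hj)]

/-- The twisting endomorphism. -/
noncomputable def twistMap (σ : F →+* F) : GL chevD4.Idx F →* GL chevD4.Idx F :=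
  (alpha F).toMonoidHom.comp (ChevField.glMap chevD4 σ)

theorem twistMap_apply (σ : F →+* F) (g : GL chevD4.Idx F) :
    twistMap σ g = alpha F (ChevField.glMap chevD4 σ g) := rfl

theorem twistMap_x (σ : F →+* F) {r : ℕ} (hr : r < chevD4.nroots) (t : F) :
    twistMap σ (xGL hc F hr t) = xGL hc F (rho_lt hr) ((d4Graph.sign r : F) * σ t) := by
  rw [twistMap_apply, ChevField.glMap_xGL hc σ hr t, alpha_x hr]

theorem glMap_alpha {L : Type*} [Field L] (f : F →+* L) (g : GL chevD4.Idx F) :
    ChevField.glMap chevD4 f (alpha F g) = alpha L (ChevField.glMap chevD4 f g) := by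
  refine Units.ext ?_
  show (Twisted.GraphData.conjMap Twisted.d4Graph_facts F _).map f =
    Twisted.GraphData.conjMap Twisted.d4Graph_facts L ((g : Matrix chevD4.Idx chevD4.Idx F).map f)
  ext a b
  have hs : ∀ x : chevD4.Idx, f (Twisted.d4Graph.idxSign F x) = Twisted.d4Graph.idxSign L x := by
    intro (x : chevD4.Idx)
    rcases x with i | r <;> simp [Twisted.GraphData.idxSign]
  simp [Twisted.GraphData.conjMap, map_mul, hs]

theorem glMap_twistMap {L : Type*} [Field L] (f : F →+* L) (σ : F →+* F) (τ : L →+* L)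
    (he : ∀ x, τ (f x) = f (σ x)) (g : GL chevD4.Idx F) :
    ChevField.glMap chevD4 f (twistMap σ g) = twistMap τ (ChevField.glMap chevD4 f g) := by
  rw [twistMap_apply, twistMap_apply, glMap_alpha]
  congr 1
  refine Units.ext ?_
  simp only [ChevField.coe_glMap, Matrix.map_map]
  congr 1
  exact funext fun x => (he x).symm

theorem twistMap_torusHom (σ : F →+* F) (c : ℕ → Fˣ) :
    twistMap σ (torusHom chevD4 F c) =
      torusHom chevD4 F (fun j => Units.map σ.toMonoidHom (c (d4Graph.node (d4Graph.node j)))) := by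
  rw [twistMap_apply, ChevField.glMap_torusHom, alpha_torusHom]
  rfl

theorem xGL_congr {r r' : ℕ} (hr : r < chevD4.nroots) (hr' : r' < chevD4.nroots) (e : r = r') {t t' : F}
    (et : t = t') : xGL hc F hr t = xGL hc F hr' t' := by
  subst e et; rfl

theorem twistMap_phi_one (σ : F →+* F) (g : SL(2, F)) :
    twistMap σ (phi F (i := 1) (by decide) g) =
      phi F (i := 1) (by decide) (Matrix.SpecialLinearGroup.map σ g) := by
  have hi : 1 < chevD4.rank := by decide
  refine DFunLike.congr_fun (f := (twistMap σ).comp (phi F hi))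
    (g := (phi F hi).comp (Matrix.SpecialLinearGroup.map σ))
    (sl2_hom_ext _ _ (fun t => ?_) (fun t => ?_)) g
  · have e : Matrix.SpecialLinearGroup.map σ (upper t) = upper (σ t) := by
      refine sl_ext ?_ ?_ ?_ ?_ <;> simp [upper_entries] <;> simp [upper]
    simp only [MonoidHom.comp_apply, e, phi_upper, twistMap_x]
    refine xGL_congr _ _ (by decide +kernel) ?_
    rw [show d4Graph.sign (chevD4.simple 1) = 1 by decide +kernel, Int.cast_one, one_mul]
  · have e : Matrix.SpecialLinearGroup.map σ (lower t) = lower (σ t) := by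
      refine sl_ext ?_ ?_ ?_ ?_ <;> simp [lower_entries] <;> simp [lower]
    simp only [MonoidHom.comp_apply, e, phi_lower, twistMap_x]
    refine xGL_congr _ _ (by decide +kernel) ?_
    rw [show d4Graph.sign (ng chevD4 (chevD4.simple 1)) = 1 by decide +kernel, Int.cast_one, one_mul]

end Cfsg.Agent.Lib.TrialityTorus
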