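import Cfsg.Agent.Lib.TrialityTorus.Torus
import Mathlib.FieldTheory.Finite.Extension

/-!
³D4(q) has a self-centralizing cyclic subgroup of order `(q³ - 1)(q + 1)`.
-/

set_option autoImplicit false

namespace Cfsg.Agent.Lib.TrialityTorus

open Cfsg.Lie Cfsg.Agent.Lib.Chev Cfsg.Agent.Lib.Triality Cfsg.Agent.Lib.Twisted
open scoped Matrix MatrixGroups
open RankOneData (upper lower wElt sl_ext mul_entry wElt_entries)

local notation "hh" => Cfsg.Agent.Lib.Triality.rooted_four
local notation "hc" => Rooted.toChecked Cfsg.Agent.Lib.Triality.rooted_four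

/-- A unit fixed by the power map of the cardinality of a subfield comes from that subfield. -/
theorem exists_of_pow_eq {K L : Type*} [Field K] [Field L] [Fintype K] [Fintype L] (f : K →+* L) {x : L}
    (hx : x ^ Fintype.card K = x) : ∃ y, f y = x := by
  classical
  by_cases h0 : x = 0
  · exact ⟨0, by rw [map_zero, h0]⟩
  set n := Fintype.card Kˣ
  have hn : 0 < n := Fintype.card_pos
  set S := Finset.univ.filter fun y : Lˣ => y ^ n = 1
  set T := (Finset.univ : Finset Kˣ).map ⟨Units.map f.toMonoidHom, Units.map_injective f.injective⟩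
  have hTS : T ⊆ S := by
    intro y hy
    simp only [T, Finset.mem_map, Finset.mem_univ, true_and, Function.Embedding.coeFn_mk] at hy
    obtain ⟨u, rfl⟩ := hy
    simp [S, n, ← map_pow, pow_card_eq_one]
  have hST : S = T := (Finset.eq_of_subset_of_card_le hTS
    ((IsCyclic.card_pow_eq_one_le (α := Lˣ) hn).trans (le_of_eq (by simp [T, n])))).symm
  have hxS : Units.mk0 x h0 ∈ S := by
    simp only [S, Finset.mem_filter, Finset.mem_univ, true_and]
    refine Units.ext ?_
    rw [Units.val_pow_eq_pow_val, Units.val_mk0, Units.val_one]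
    refine mul_right_cancel₀ h0 ?_
    rw [one_mul, ← pow_succ]
    convert hx using 2
    simp only [n, Fintype.card_units]
    have := Fintype.card_pos (α := K)
    omega
  rw [hST] at hxS
  simp only [T, Finset.mem_map, Finset.mem_univ, true_and, Function.Embedding.coeFn_mk] at hxS
  obtain ⟨u, hu⟩ := hxS
  exact ⟨u, congrArg Units.val hu⟩

theorem map_entry {R S : Type*} [Field R] [Field S] (g : R →+* S) (A : SL(2, R)) (i j : Fin 2) :
    Matrix.SpecialLinearGroup.map g A i j = g (A i j) := rfl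

/-- The diagonal elements fixed by the composite of twist and reflection are at most
`(q³ - 1)(q + 1)` in number, counted through the values of two fundamental roots. -/
theorem card_pairs {L : Type*} [Field L] [Fintype L] (q : ℕ) (hq : 2 ≤ q) :
    Nat.card {p : Lˣ × Lˣ // p.2 ^ (q + 1) = 1 ∧ p.1 ^ (q ^ 3 - 1) * p.2 ^ (q ^ 3 + q ^ 2 + q) = 1}
      ≤ (q ^ 3 - 1) * (q + 1) := by
  classical
  have hpos : 0 < q ^ 3 - 1 := by have : 2 ^ 3 ≤ q ^ 3 := Nat.pow_le_pow_left hq 3; omega
  set B := Finset.univ.filter fun b : Lˣ => b ^ (q + 1) = 1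
  let A : Lˣ → Finset Lˣ := fun b =>
    Finset.univ.filter fun a : Lˣ => a ^ (q ^ 3 - 1) * b ^ (q ^ 3 + q ^ 2 + q) = 1
  have hA : ∀ b, (A b).card ≤ q ^ 3 - 1 := by
    intro b
    rcases (A b).eq_empty_or_nonempty with h | ⟨a₀, ha₀⟩
    · simp [h]
    refine le_trans (Finset.card_le_card_of_injOn (fun a => a * a₀⁻¹) ?_ ?_)
      (IsCyclic.card_pow_eq_one_le (α := Lˣ) hpos)
    · intro a ha
      simp only [A, Finset.mem_filter, Finset.mem_univ, true_and] at ha₀
      simp only [A, Finset.coe_filter, Finset.mem_univ, true_and, Set.mem_setOf_eq] at ha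
      simp only [Finset.coe_filter, Finset.mem_univ, true_and, Set.mem_setOf_eq]
      rw [mul_pow, inv_pow, mul_inv_eq_one]
      exact mul_right_cancel (ha.trans ha₀.symm)
    · intro a _ a' _ e
      exact mul_right_cancel e
  rw [Nat.card_eq_fintype_card, Fintype.card_subtype]
  calc _ ≤ (B.biUnion fun b => (A b).image fun a => (a, b)).card := Finset.card_le_card (by
        rintro ⟨a, b⟩ hp
        simp only [Finset.mem_filter, Finset.mem_univ, true_and] at hp
        simp [B, A, hp.1, hp.2])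
    _ ≤ B.card * (q ^ 3 - 1) := Finset.card_biUnion_le_card_mul _ _ _ fun b _ =>
        Finset.card_image_le.trans (hA b)
    _ ≤ (q + 1) * (q ^ 3 - 1) := Nat.mul_le_mul_right _ (IsCyclic.card_pow_eq_one_le (Nat.succ_pos q))
    _ = _ := mul_comm _ _

set_option maxHeartbeats 1000000 in
/-- The construction, over a field of degree two above `K`. -/
theorem exists_selfCentralizing {K : Type*} [Field K] [Fintype K] {L : Type*} [Field L] [Fintype L]
    (f : K →+* L) (q : ℕ) (hq : 2 ≤ q) (hK : Fintype.card K = q ^ 3) (hL : Fintype.card L = q ^ 6)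
    (σK : K →+* K) (hσK : ∀ x, σK x = x ^ q) (σ : L →+* L) (hσ : ∀ x, σ x = x ^ q) :
    ∃ H : Subgroup ↥(twistedD4 K q), IsCyclic ↥H ∧ Nat.card ↥H = (q ^ 3 - 1) * (q + 1) ∧
      Subgroup.centralizer (H : Set ↥(twistedD4 K q)) = H := by
  classical
  have hσf : ∀ x, σ (f x) = f (σK x) := fun x => by rw [hσ, hσK, map_pow]
  have hdesc : ∀ x : L, σ (σ (σ x)) = x → ∃ y, f y = x := fun x hx => exists_of_pow_eq f (by
    rw [hσ, hσ, hσ, ← pow_mul, ← pow_mul] at hx
    rw [hK, show q ^ 3 = q * (q * q) by ring]; exact hx)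
  have hdesc1 : ∀ x : L, σ x = x → ∃ y, f y = x ∧ σK y = y := fun x hx => by
    obtain ⟨y, hy⟩ := hdesc x (by rw [hx, hx, hx])
    exact ⟨y, hy, f.injective (by rw [← hσf, hy, hx])⟩
  obtain ⟨μ, hμ⟩ := IsCyclic.exists_ofOrder_eq_natCard (α := Lˣ)
  rw [Nat.card_eq_fintype_card, Fintype.card_units, hL] at hμ
  have hq6 : 1 ≤ q ^ 6 := Nat.one_le_pow _ _ (by omega)
  have hq3 : 1 ≤ q ^ 3 := Nat.one_le_pow _ _ (by omega)
  have hμ' : (orderOf μ : ℤ) = (q : ℤ) ^ 6 - 1 := by rw [hμ, Nat.cast_sub hq6]; push_cast; ring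
  have hzero : ∀ e : ℤ, μ ^ e = 1 ↔ (q : ℤ) ^ 6 - 1 ∣ e := fun e => by
    rw [← orderOf_dvd_iff_zpow_eq_one, hμ']
  have hm : ∀ u : Lˣ, Units.map σ.toMonoidHom u = u ^ q := fun u => Units.ext (by simp [hσ])
  set a := μ ^ (q ^ 3 + 1) with ha
  set c := μ ^ (q ^ 4 + q ^ 2 + 1) with hcdef
  -- the field conditions
  have hper : ∀ e : ℕ, ((q : ℤ) ^ 6 - 1 ∣ (e : ℤ)) → μ ^ e = 1 := fun e he => by
    rw [← zpow_natCast]; exact (hzero _).2 he
  have ha3 : a ^ (q ^ 3) = a := by
    rw [ha, ← pow_mul, pow_eq_pow_iff_modEq, hμ, Nat.modEq_iff_dvd, Nat.cast_sub hq6]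
    exact ⟨-1, by push_cast; ring⟩
  have hc2 : c ^ (q ^ 2) = c := by
    rw [hcdef, ← pow_mul, pow_eq_pow_iff_modEq, hμ, Nat.modEq_iff_dvd, Nat.cast_sub hq6]
    exact ⟨-1, by push_cast; ring⟩
  have hcq : c ^ q ≠ c := by
    intro e
    rw [hcdef, ← pow_mul, pow_eq_pow_iff_modEq, hμ, Nat.modEq_iff_dvd, Nat.cast_sub hq6] at e
    push_cast at e
    obtain ⟨k, hk⟩ := e
    have hC : (0 : ℤ) < (q : ℤ) ^ 4 + q ^ 2 + 1 := by positivity
    have h1 : ((q : ℤ) ^ 2 - 1) * k = 1 - q := mul_left_cancel₀ hC.ne' (by linear_combination -hk)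
    have hq' : (2 : ℤ) ≤ q := by exact_mod_cast hq
    have h2 : (((q : ℤ) + 1) * k + 1) * ((q : ℤ) - 1) = 0 := by linear_combination h1
    rcases mul_eq_zero.1 h2 with h3 | h3
    · have : ((q : ℤ) + 1) ∣ 1 := ⟨-k, by linear_combination h3⟩
      have := Int.le_of_dvd one_pos this
      omega
    · omega
  set ν := c ^ (q + 1) with hν
  have hνq : ν ^ q = ν := by
    rw [hν, ← pow_mul, show (q + 1) * q = q ^ 2 + q by ring, pow_add, hc2, pow_succ' c q]
  have haν : a * a ^ q * (a ^ q) ^ q = ν := by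
    rw [hν, ha, hcdef, ← pow_mul, ← pow_mul, ← pow_mul, ← pow_add, ← pow_add]
    congr 1; ring
  have hδ : (c : L) - ((c ^ q : Lˣ) : L) ≠ 0 := sub_ne_zero.2 fun e => hcq (Units.ext e.symm)
  set δ := Units.mk0 _ hδ with hδdef
  -- descended parameters
  obtain ⟨aK, haK⟩ := hdesc (a : L) (by
    simp only [hσ, ← pow_mul]
    rw [show q * q * q = q ^ 3 by ring, ← Units.val_pow_eq_pow_val, ha3])
  obtain ⟨νK, hνK, hνKfix⟩ := hdesc1 (ν : L) (by rw [hσ, ← Units.val_pow_eq_pow_val, hνq])
  obtain ⟨trK, htrK, htrKfix⟩ := hdesc1 ((c : L) + ((c ^ q : Lˣ) : L)) (by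
    rw [map_add, hσ, hσ, ← Units.val_pow_eq_pow_val, ← Units.val_pow_eq_pow_val, ← pow_mul c q q, ← pow_two, hc2,
      add_comm])
  have haK0 : aK ≠ 0 := fun e => a.ne_zero (by rw [← haK, e, map_zero])
  have hνK0 : νK ≠ 0 := fun e => ν.ne_zero (by rw [← hνK, e, map_zero])
  have h1lt : 1 < chevD4.rank := by decide
  obtain ⟨AK, k00, k01, k10, k11⟩ : ∃ A : SL(2, K),
      A 0 0 = 0 ∧ A 0 1 = -1 ∧ A 1 0 = 1 ∧ A 1 1 = trK :=
    ⟨⟨!![0, -1; 1, trK], by rw [Matrix.det_fin_two_of]; ring⟩, rfl, rfl, rfl, rfl⟩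
  have hAK : ∀ i j, σK (AK i j) = AK i j := by
    intro i j; fin_cases i <;> fin_cases j <;> simp [k00, k01, k10, k11, htrKfix]
  set tK := torusHom chevD4 K (orbitParam σK (Units.mk0 aK haK0) (Units.mk0 νK hνK0))
  set y := tK * phi K h1lt AK with hy
  have hymem : y ∈ twistedD4 K q :=
    mul_mem (orbit_mem q σK hσK _ _ (by simpa using hνKfix)) (phi_one_mem q σK hσK AK hAK)
  -- the diagonalizing element
  obtain ⟨P, p00, p01, p10, p11⟩ : ∃ P : SL(2, L), P 0 0 = -((c ^ q : Lˣ) : L) / (δ : L) ∧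
      P 0 1 = -(c : L) ∧ P 1 0 = 1 / (δ : L) ∧ P 1 1 = 1 :=
    ⟨⟨!![-((c ^ q : Lˣ) : L) / (δ : L), -(c : L); 1 / (δ : L), 1], by
      rw [Matrix.det_fin_two_of]
      field_simp
      rw [hδdef, Units.val_mk0]; ring⟩, rfl, rfl, rfl, rfl⟩
  set E := phi L h1lt P with hE
  set s := torusHom chevD4 L (genParam σ q μ) with hs
  set t₀ := torusHom chevD4 L (orbitParam σ a ν) with ht₀
  have hmapt : ChevField.glMap chevD4 f tK = t₀ := by
    rw [ChevField.glMap_torusHom]
    refine ChevField.torusHom_congr fun i hi => ?_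
    change i < 4 at hi
    interval_cases i <;> refine Units.ext ?_ <;> simp [orbitParam, haK, hνK, ← hσf]
  set AL := Matrix.SpecialLinearGroup.map f AK with hAL
  have hχ : torusFun chevD4 (orbitParam σ a ν) (chevD4.simple 1) = ν := by
    rw [(torusFun_simples _).2.1]
    simp only [orbitParam, hm]
    rw [haν, sq, mul_div_cancel_right]
  set d := c * ν⁻¹ with hd
  have hs' : s = t₀ * phi L h1lt (diag2 d) := by
    rw [phi_diag, hs, ht₀, ← map_mul]
    refine ChevField.torusHom_congr fun i hi => ?_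
    change i < 4 at hi
    interval_cases i <;> simp [genParam, orbitParam, ← ha, ← hcdef, d]
  have hid : AL * P = scale ν⁻¹ P * diag2 d := by
    have hcν : (ν : L) = ((c : L)) * ((c ^ q : Lˣ) : L) := by rw [hν, pow_succ', Units.val_mul]
    have hc0 := c.ne_zero
    have hcq0 := (c ^ q).ne_zero
    refine sl_ext ?_ ?_ ?_ ?_ <;>
      simp [mul_entry, scale_entries, diag2_entries, AL, map_entry, p00, p01, p10, p11, k00, k01, k10, k11, htrK, d] <;>
      simp [hcν] <;> field_simp <;> simp [hδdef] <;> ring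
  have hconj : ChevField.glMap chevD4 f y = E * s * E⁻¹ := by
    have e1 : phi L h1lt (scale ν⁻¹ P) = t₀⁻¹ * E * t₀ := by
      have := torus_conj_phi (orbitParam σ a ν)⁻¹ h1lt P
      rw [map_inv, inv_inv] at this
      rw [this]
      congr 3
      conv_lhs => rw [← hχ]
      rw [torusFun, torusFun, ← Finset.prod_inv_distrib]
      exact Finset.prod_congr rfl fun i _ => by rw [Pi.inv_apply, inv_zpow]
    have e2 := congrArg (phi L h1lt) hid
    rw [map_mul, map_mul, e1] at e2
    rw [hy, map_mul, hmapt, glMap_phi, ← hAL, eq_mul_inv_iff_mul_eq, mul_assoc, e2, hs']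
    group
  have hyord : orderOf (⟨y, hymem⟩ : ↥(twistedD4 K q)) = (q ^ 3 - 1) * (q + 1) := by
    rw [← Subgroup.orderOf_coe, ← orderOf_injective _ (ChevField.glMap_injective f) y, hconj]
    have : E * s * E⁻¹ = MulAut.conj E s := rfl
    rw [this, MulEquiv.orderOf_eq, hs, orderOf_gen σ q hσ μ hq hμ']
  refine ⟨Subgroup.zpowers ⟨y, hymem⟩, inferInstance, by rw [Nat.card_zpowers, hyord], ?_⟩
  -- the centralizer
  have hsub : Subgroup.zpowers (⟨y, hymem⟩ : ↥(twistedD4 K q)) ≤
      Subgroup.centralizer (Subgroup.zpowers (⟨y, hymem⟩ : ↥(twistedD4 K q)) : Set ↥(twistedD4 K q)) := by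
    intro x hx
    rw [Subgroup.mem_centralizer_iff]
    intro z hz
    obtain ⟨i, rfl⟩ := Subgroup.mem_zpowers_iff.1 hx
    obtain ⟨j, rfl⟩ := Subgroup.mem_zpowers_iff.1 hz
    exact (Commute.refl (⟨y, hymem⟩ : ↥(twistedD4 K q))).zpow_zpow j i
  refine (Subgroup.eq_of_le_of_card_ge hsub ?_).symm
  rw [Nat.card_zpowers, hyord]
  refine le_trans ?_ (card_pairs (L := L) q hq)
  have hEmem : E ∈ chevD4.group L := phi_mem h1lt P
  have hrat : ∀ x : ↥(Subgroup.centralizer (Subgroup.zpowers (⟨y, hymem⟩ : ↥(twistedD4 K q)) :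
      Set ↥(twistedD4 K q))), ∃ t : ℕ → Lˣ,
      ChevField.glMap chevD4 f ((x.1 : GL chevD4.Idx K)) = E * torusHom chevD4 L t * E⁻¹ ∧
      torusHom chevD4 L t = torusHom chevD4 L (twistParam σ t) := by
    intro x
    obtain ⟨hxG, hxfix⟩ := fixed_of_mem q hK σK hσK x.1.2
    set X := ChevField.glMap chevD4 f (x.1 : GL chevD4.Idx K) with hX
    have hXmem : X ∈ chevD4.group L := ChevField.glMap_group_le f (Subgroup.mem_map_of_mem _ hxG)
    have hcom : Commute (ChevField.glMap chevD4 f y) X :=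
      (show Commute y (x.1 : GL chevD4.Idx K) from
        congrArg Subtype.val (Subgroup.mem_centralizer_iff.1 x.2 _ (Subgroup.mem_zpowers _))).map _
    have hcom' : Commute s (E⁻¹ * X * E) := by
      have h1 := hcom
      rw [hconj] at h1
      have h2 := h1.conj E⁻¹
      simpa [mul_assoc] using h2
    have hYd := diagonal_of_commute σ q hσ μ hq hμ' (mul_mem (mul_mem (inv_mem hEmem) hXmem) hEmem) hcom'
    rw [Rooted.diagonalSubgroup_eq hh] at hYd
    obtain ⟨t, ht⟩ := hYd
    have hXeq : X = E * torusHom chevD4 L t * E⁻¹ := by rw [ht]; group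
    refine ⟨t, hXeq, ?_⟩
    have hXfix : twistMap σ X = X := by rw [hX, ← glMap_twistMap f σK σ hσf, hxfix]
    set h := torusHom chevD4 L (Pi.mulSingle 1 δ)
    have hEfix : twistMap σ E = E * (h * nS hc L 1) := by
      rw [hE, twistMap_phi_one, show h = phi L h1lt (diag2 δ) from (phi_diag h1lt δ).symm,
        ← phi_wElt h1lt, ← map_mul, ← map_mul]
      congr 1
      have hσc : σ (c : L) = ((c ^ q : Lˣ) : L) := by rw [hσ, Units.val_pow_eq_pow_val c q]
      have hσcq : σ ((c ^ q : Lˣ) : L) = (c : L) := by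
        rw [hσ, ← Units.val_pow_eq_pow_val, ← pow_mul c q q, ← pow_two, hc2]
      have hσδ : σ (δ : L) = -(δ : L) := by rw [hδdef, Units.val_mk0, map_sub, hσc, hσcq, neg_sub]
      refine sl_ext ?_ ?_ ?_ ?_ <;>
        simp [mul_entry, diag2_entries, wElt_entries, map_entry] <;>
        simp [p00, p01, p10, p11, map_div₀, hσc, hσcq, hσδ, Units.val_pow_eq_pow_val] <;>
        (try simp [← Units.val_pow_eq_pow_val, hσc, hσcq, hσδ]) <;> (try field_simp) <;> (try ring) <;>
        rw [← pow_mul c q q, ← pow_two, hc2]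
    have htw : nS hc L 1 * twistMap σ (torusHom chevD4 L t) =
        torusHom chevD4 L (twistParam σ t) * nS hc L 1 := by
      rw [twistMap_torusHom]
      exact Checked.nS_conj_torus hc h1lt _
    rw [hXeq, map_mul, map_mul, map_inv, hEfix] at hXfix
    have e3 : h * torusHom chevD4 L (twistParam σ t) * h⁻¹ = torusHom chevD4 L t := by
      have e4 : twistMap σ (torusHom chevD4 L t) =
          (nS hc L 1)⁻¹ * (torusHom chevD4 L (twistParam σ t) * nS hc L 1) := by rw [← htw]; group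
      rw [e4] at hXfix
      refine mul_left_cancel (a := E) (mul_right_cancel (b := E⁻¹) ?_)
      rw [← hXfix]
      group
    have hcomm2 : h * torusHom chevD4 L (twistParam σ t) = torusHom chevD4 L (twistParam σ t) * h := by
      rw [← map_mul, ← map_mul, mul_comm]
    rw [← e3, hcomm2, mul_inv_cancel_right]
  choose tf htX htfix using hrat
  have hP : ∀ x, (torusFun chevD4 (tf x) (chevD4.simple 1)) ^ (q + 1) = 1 ∧
      (torusFun chevD4 (tf x) (chevD4.simple 0)) ^ (q ^ 3 - 1) *
        (torusFun chevD4 (tf x) (chevD4.simple 1)) ^ (q ^ 3 + q ^ 2 + q) = 1 := by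
    intro x
    obtain ⟨e0, e1, e2, e3⟩ := twistParam_simples σ q hσ (tf x)
    rw [← torusFun_congr (htfix x) (Checked.simple_lt hc (i := 0) (by decide))] at e0
    rw [← torusFun_congr (htfix x) (Checked.simple_lt hc (i := 1) (by decide))] at e1
    rw [← torusFun_congr (htfix x) (Checked.simple_lt hc (i := 2) (by decide))] at e2
    rw [← torusFun_congr (htfix x) (Checked.simple_lt hc (i := 3) (by decide))] at e3
    set A0 := torusFun chevD4 (tf x) (chevD4.simple 0)
    set B := torusFun chevD4 (tf x) (chevD4.simple 1)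
    set A2 := torusFun chevD4 (tf x) (chevD4.simple 2)
    set A3 := torusFun chevD4 (tf x) (chevD4.simple 3)
    refine ⟨by rw [pow_succ']; exact eq_inv_iff_mul_eq_one.1 e1, ?_⟩
    have e : A0 = A0 ^ (q ^ 3) * B ^ (q ^ 3 + q ^ 2 + q) := by
      conv_lhs => rw [e0, e3, e2]
      simp only [mul_pow, ← pow_mul]
      rw [mul_assoc, mul_assoc, ← pow_add, ← pow_add]
      congr 2 <;> ring
    refine mul_left_cancel (a := A0) ?_
    rw [mul_one, ← mul_assoc, ← pow_succ', Nat.sub_add_cancel hq3]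
    exact e.symm
  refine Nat.card_le_card_of_injective (fun x => ⟨(torusFun chevD4 (tf x) (chevD4.simple 0),
    torusFun chevD4 (tf x) (chevD4.simple 1)), hP x⟩) ?_
  intro x x' e
  simp only [Subtype.mk.injEq, Prod.mk.injEq] at e
  obtain ⟨f0, f1⟩ := e
  obtain ⟨a0, a1, a2, a3⟩ := twistParam_simples σ q hσ (tf x)
  obtain ⟨b0, b1, b2, b3⟩ := twistParam_simples σ q hσ (tf x')
  rw [← torusFun_congr (htfix x) (Checked.simple_lt hc (i := 2) (by decide))] at a2
  rw [← torusFun_congr (htfix x) (Checked.simple_lt hc (i := 3) (by decide))] at a3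
  rw [← torusFun_congr (htfix x') (Checked.simple_lt hc (i := 2) (by decide))] at b2
  rw [← torusFun_congr (htfix x') (Checked.simple_lt hc (i := 3) (by decide))] at b3
  have f2 : torusFun chevD4 (tf x) (chevD4.simple 2) = torusFun chevD4 (tf x') (chevD4.simple 2) := by
    rw [a2, b2, f0, f1]
  have f3 : torusFun chevD4 (tf x) (chevD4.simple 3) = torusFun chevD4 (tf x') (chevD4.simple 3) := by
    rw [a3, b3, f2, f1]
  refine Subtype.ext (Subtype.ext (ChevField.glMap_injective f ?_))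
  rw [htX x, htX x', torusHom_ext_simple (c := tf x) (d := tf x') (fun j hj => by
    interval_cases j
    exacts [f0, f1, f2, f3])]

/-- ³D4(q) has a self-centralizing cyclic subgroup of order `(q³ - 1)(q + 1)`. -/
theorem twistedD4_selfCentralizing {K : Type*} [Field K] [Fintype K] (q : ℕ) (hq : IsPrimePow q)
    (hK : Fintype.card K = q ^ 3) :
    ∃ H : Subgroup ↥(twistedD4 K q), IsCyclic ↥H ∧ Nat.card ↥H = (q ^ 3 - 1) * (q + 1) ∧
      Subgroup.centralizer (H : Set ↥(twistedD4 K q)) = H := by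
  obtain ⟨p, hp⟩ := CharP.exists K
  have : Fact p.Prime := ⟨CharP.char_is_prime K p⟩
  have hq2 := hq.two_le
  obtain ⟨r, a, hr, ha, hra⟩ := hq
  have hrp : r = p := by
    obtain ⟨n, hpn, hn⟩ := FiniteField.card K p
    refine (Nat.prime_dvd_prime_iff_eq hr.nat_prime hpn).1 (hr.nat_prime.dvd_of_dvd_pow (n := (n : ℕ)) ?_)
    rw [← hn, hK, ← hra, ← pow_mul]
    exact dvd_pow_self r (by omega)
  subst hrp
  have : NeZero (2 : ℕ) := ⟨by omega⟩
  let L := FiniteField.Extension K r 2
  have : Finite L := Module.finite_of_finite K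
  let _ : Fintype L := Fintype.ofFinite L
  have : CharP L r := charP_of_injective_algebraMap (algebraMap K L).injective r
  have hL : Fintype.card L = q ^ 6 := by
    rw [Fintype.card_eq_nat_card, Module.natCard_eq_pow_finrank (K := K), FiniteField.finrank_extension,
      Nat.card_eq_fintype_card, hK, ← pow_mul]
  exact exists_selfCentralizing (algebraMap K L) q hq2 hK hL (iterateFrobenius K r a)
    (fun x => by rw [iterateFrobenius_def, hra]) (iterateFrobenius L r a)
    (fun x => by rw [iterateFrobenius_def, hra])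

end Cfsg.Agent.Lib.TrialityTorus
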